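import Groth.Agent.Neron.K131.ExistSH
import Groth.Agent.Sga7.H755.FN.NeronDesc
import Groth.Agent.Pi1C.StrictHensConn
import Groth.Agent.Hensel.Exist
import Groth.Agent.Surf.K456.FlatCurve
import Groth.Agent.CurvesA.CurveDvr
import Groth.Prelude.Def_Red

/-!
# From the extension property for points to the Néron property over local rings
-/

set_option autoImplicit false

universe u

open CategoryTheory CategoryTheory.Limits AlgebraicGeometry TopologicalSpace Opposite

namespace K531.Loc

local notation3 "spm(" A ", " B ")" => Spec.map (CommRingCat.ofHom (algebraMap A B))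

/-- Sections over a strictly henselian discrete valuation ring extend. -/
theorem surjective_genericFibre {R : Type u} [CommRing R] [IsDomain R] [IsDiscreteValuationRing R]
    {S G : Scheme.{u}} (γ : G ⟶ S) (U0 : Scheme.{u}) (ι : U0 ⟶ S) [Mono ι] (g : G ⟶ U0) (hg : g ≫ ι = γ)
    (r : Spec (CommRingCat.of R) ⟶ U0) (N : Over (Spec (CommRingCat.of R))) (q : N.left ⟶ G)
    (hN : IsPullback q N.hom g r)
    (hext : ∀ y : Spec (CommRingCat.of (FractionRing R)) ⟶ G, y ≫ γ = spm(R, FractionRing R) ≫ r ≫ ι →
        ∃ z : Spec (CommRingCat.of R) ⟶ G, z ≫ γ = r ≫ ι ∧ spm(R, FractionRing R) ≫ z = y) :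
    Function.Surjective (fun t : Over.mk (𝟙 (Spec (CommRingCat.of R))) ⟶ N => (Neron.genericFibre R).map t) := by
  intro v
  -- the generic point
  let one := pullback (𝟙 (Spec (CommRingCat.of R))) (Neron.genPt R)
  let i : Spec (CommRingCat.of (FractionRing R)) ⟶ one :=
    pullback.lift (Neron.genPt R) (𝟙 _) (by rw [Category.comp_id, Category.id_comp])
  have hi : pullback.snd (𝟙 (Spec (CommRingCat.of R))) (Neron.genPt R) ≫ i = 𝟙 one := by
    apply pullback.hom_ext
    · rw [Category.assoc, pullback.lift_fst, ← pullback.condition, Category.comp_id, Category.id_comp]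
    · rw [Category.assoc, pullback.lift_snd, Category.comp_id, Category.id_comp]
  have hv : v.left ≫ pullback.snd N.hom (Neron.genPt R) = pullback.snd (𝟙 _) (Neron.genPt R) := Over.w v
  let y₀ : Spec (CommRingCat.of (FractionRing R)) ⟶ N.left := i ≫ v.left ≫ pullback.fst N.hom (Neron.genPt R)
  have hy₀ : y₀ ≫ N.hom = Neron.genPt R := by
    simp only [y₀, Category.assoc]
    rw [pullback.condition, ← Category.assoc v.left, hv, ← Category.assoc, pullback.lift_snd, Category.id_comp]
  obtain ⟨z, hz1, hz2⟩ := hext (y₀ ≫ q) (by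
    have e1 : (y₀ ≫ q) ≫ γ = y₀ ≫ (q ≫ g) ≫ ι := by simp only [Category.assoc, hg]
    rw [e1, hN.w]
    have e2 : y₀ ≫ (N.hom ≫ r) ≫ ι = (y₀ ≫ N.hom) ≫ r ≫ ι := by simp only [Category.assoc]
    rw [e2, hy₀])
  have hz1' : z ≫ g = r := by
    rw [← cancel_mono ι, Category.assoc, hg, hz1]
  let t₀ : Spec (CommRingCat.of R) ⟶ N.left := hN.lift z (𝟙 _) (by rw [hz1', Category.id_comp])
  have ht₀ : t₀ ≫ N.hom = 𝟙 _ := hN.lift_snd _ _ _
  have ht₁ : Neron.genPt R ≫ t₀ = y₀ := by
    apply hN.hom_ext
    · rw [Category.assoc, hN.lift_fst]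
      exact hz2
    · rw [Category.assoc, ht₀, Category.comp_id, hy₀]
  refine ⟨Over.homMk t₀ ht₀, ?_⟩
  apply Over.OverMorphism.ext
  apply pullback.hom_ext
  · have e1 : ((Neron.genericFibre R).map (Over.homMk t₀ ht₀ : Over.mk (𝟙 (Spec (CommRingCat.of R))) ⟶ N)).left ≫
        pullback.fst N.hom (Neron.genPt R) = pullback.fst (𝟙 _) (Neron.genPt R) ≫ t₀ := pullback.lift_fst _ _ _
    refine e1.trans ?_
    have e2 : pullback.fst (𝟙 (Spec (CommRingCat.of R))) (Neron.genPt R) =
        pullback.snd (𝟙 (Spec (CommRingCat.of R))) (Neron.genPt R) ≫ Neron.genPt R := by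
      rw [← pullback.condition, Category.comp_id]
    rw [e2, Category.assoc, ht₁]
    simp only [y₀]
    rw [← Category.assoc, hi, Category.id_comp]
  · rw [hv]
    exact Over.w ((Neron.genericFibre R).map (Over.homMk t₀ ht₀ : Over.mk (𝟙 (Spec (CommRingCat.of R))) ⟶ N))

/-- The local rings of a regular curve are discrete valuation rings. -/
theorem isDiscreteValuationRing_stalk {S : Scheme.{u}} [IsIntegral S]
    (hregS : ∀ s : S, IsRegularLocalRing (S.presheaf.stalk s)) (hdimS : topologicalKrullDim S ≤ 1) (s : S)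
    (hs : s ≠ genericPoint S) : IsDiscreteValuationRing (S.presheaf.stalk s) := by
  have := hregS s
  have h1 : IsPrincipalIdealRing (S.presheaf.stalk s) := K456.FlatCurve.isPrincipalIdealRing_of_regular _
    ((Groth.Agent.CurvesA.DimOne.ringKrullDim_stalk_le S s).trans hdimS)
  exact { not_a_field' := fun h => hs (Groth.Agent.CurvesA.CurveDvr.eq_genericPoint_of_isField
    (IsLocalRing.isField_iff_maximalIdeal_eq.2 h)) }

/-- **(L)** the extension property for points over strictly henselian discrete valuation rings implies the Néron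
property over the local rings. -/
theorem isNeron_stalk {S : Scheme.{u}} [IsIntegral S] {U0 : S.Opens} (G : Over U0.toScheme) [GrpObj G] [Smooth G.hom]
    [IsSeparated G.hom] [QuasiCompact G.hom] (s : S) [IsDiscreteValuationRing (S.presheaf.stalk s)]
    (l : Spec (CommRingCat.of (S.presheaf.stalk s)) ⟶ U0.toScheme) (hl : l ≫ U0.ι = S.fromSpecStalk s)
    (hU : ∀ (R F : Type u) [CommRing R] [IsDomain R] [IsDiscreteValuationRing R]
      [HenselianLocalRing R] [IsSepClosed (IsLocalRing.ResidueField R)] [Field F] [Algebra R F] [IsFractionRing R F]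
      (r : Spec (CommRingCat.of R) ⟶ S), WeaklyEtale r → r (IsLocalRing.closedPoint R) = s →
      ∀ y : Spec (CommRingCat.of F) ⟶ G.left, y ≫ G.hom ≫ U0.ι = spm(R, F) ≫ r →
        ∃ z : Spec (CommRingCat.of R) ⟶ G.left, z ≫ G.hom ≫ U0.ι = r ∧ spm(R, F) ≫ z = y) :
    SGA7.IsNeron (S.presheaf.stalk s) S.functionField (Red.bc l G) := by
  let R := S.presheaf.stalk s
  obtain ⟨R', _, _, _, _, hsh, -⟩ := Groth.Agent.Hensel.Exist.exists_isStrictHenselization (S.presheaf.stalk s)
  obtain ⟨_, _⟩ := Groth.Agent.Sga7.H516.SHBasic.isField_or_dvr (S.presheaf.stalk s) R'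
  have hh : HenselianLocalRing R' := hsh.henselian
  have hsep : IsSepClosed (IsLocalRing.ResidueField R') := hsh.isSepClosure.sep_closed
  let K' := FractionRing R'
  have hinj : Function.Injective ((algebraMap R' K').comp (algebraMap R R')) :=
    (IsFractionRing.injective R' K').comp (Groth.Agent.Sga7.H516.SHBasic.algebraMap_injective R R')
  let φ : S.functionField →+* K' := IsFractionRing.lift (K := S.functionField) hinj
  have hφ : φ.comp (algebraMap R S.functionField) = (algebraMap R' K').comp (algebraMap R R') := by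
    ext x
    exact IsFractionRing.lift_algebraMap (K := S.functionField) hinj x
  let _ : Algebra S.functionField K' := φ.toAlgebra
  have : IsScalarTower R S.functionField K' := IsScalarTower.of_algebraMap_eq' (by
    rw [IsScalarTower.algebraMap_eq R R' K']
    exact hφ.symm)
  have hGs : Smooth (Red.bc l G).hom := inferInstanceAs (Smooth (pullback.snd G.hom l))
  have hGp : IsSeparated (Red.bc l G).hom := inferInstanceAs (IsSeparated (pullback.snd G.hom l))
  have hGq : QuasiCompact (Red.bc l G).hom := inferInstanceAs (QuasiCompact (pullback.snd G.hom l))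
  let N := Red.bc (Spec.map (CommRingCat.ofHom (algebraMap R R'))) (Red.bc l G)
  have hNs : Smooth N.hom := inferInstanceAs (Smooth (pullback.snd (Red.bc l G).hom _))
  have hNp : IsSeparated N.hom := inferInstanceAs (IsSeparated (pullback.snd (Red.bc l G).hom _))
  have hNq : QuasiCompact N.hom := inferInstanceAs (QuasiCompact (pullback.snd (Red.bc l G).hom _))
  have hN : SGA7.IsNeron R' K' N := by
    refine K131.ExistSH.isNeron_of_bijective ⟨hh, hsep⟩ N ?_
    refine surjective_genericFibre (G.hom ≫ U0.ι) U0.toScheme U0.ι G.hom rfl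
      (Spec.map (CommRingCat.ofHom (algebraMap R R')) ≫ l) N
      (pullback.fst (Red.bc l G).hom (Spec.map (CommRingCat.ofHom (algebraMap R R'))) ≫ pullback.fst G.hom l)
      ((IsPullback.of_hasPullback (Red.bc l G).hom (Spec.map (CommRingCat.ofHom (algebraMap R R')))).flip.paste_vert
        (IsPullback.of_hasPullback G.hom l).flip).flip fun y hy => ?_
    have hr : (Spec.map (CommRingCat.ofHom (algebraMap R R')) ≫ l) ≫ U0.ι = Hens2.specOf S s R' := by
      rw [Category.assoc, hl]
    rw [hr] at hy ⊢
    have hwe := Groth.Agent.Pi1C.StrictHensConn.weaklyEtale_specOf S s R'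
    refine hU R' K' (Hens2.specOf S s R') hwe ?_ y hy
    have h1 : (Spec.map (CommRingCat.ofHom (algebraMap R R'))) (IsLocalRing.closedPoint R') =
        IsLocalRing.closedPoint R := IsLocalRing.comap_closedPoint _
    rw [Scheme.Hom.comp_apply, h1]
    exact Scheme.fromSpecStalk_closedPoint
  exact Groth.Agent.Sga7.H755.FN.NeronDesc.isNeron_desc R R' S.functionField K' (Red.bc l G) hN (Iso.refl _)

end K531.Loc
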