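import Groth.Prelude.Def_HilbD
import Groth.Prelude.Def_CohB1
import Groth.Prelude.Def_AbDual
import Mathlib.AlgebraicGeometry.Geometrically.Integral

/-!
# Definitions for the boundedness of the Jacobian (S15952, nodes PD and PG)

* `Comps f` : `X/L` is a finite disjoint union of open pieces which are geometrically integral and have a rational point;
* `UnivLN f d Z D` : `(Z, D)` represents `Hilb^d_{X/S}` on locally noetherian schemes.
-/

set_option autoImplicit false

universe u

open CategoryTheory CategoryTheory.Limits AlgebraicGeometry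

namespace K531.Defs

/-- `X` is a finite disjoint union of open pieces, geometrically integral over `L` and with a rational point. -/
structure Comps {L : Type u} [Field L] {X : Scheme.{u}} (f : X ⟶ Spec (CommRingCat.of L)) where
  ι : Type u
  finite : Finite ι
  D : ι → Scheme.{u}
  j : ∀ a, D a ⟶ X
  isOpenImmersion : ∀ a, IsOpenImmersion (j a)
  disjoint : ∀ a b, a ≠ b → Disjoint (Set.range (j a)) (Set.range (j b))
  cover : ∀ x : X, ∃ a, x ∈ Set.range (j a)
  geometricallyIntegral : ∀ a, GeometricallyIntegral (j a ≫ f)
  pt : ∀ a, Spec (CommRingCat.of L) ⟶ D a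
  pt_comp : ∀ a, pt a ≫ j a ≫ f = 𝟙 _

/-- `(Z, D)` represents the Hilbert functor of points of degree `d` on locally noetherian `S`-schemes. -/
def UnivLN {X S : Scheme.{u}} (f : X ⟶ S) (d : ℕ) (Z : Over S) (D : HilbD.Obj f d Z) : Prop :=
  ∀ (T : Over S) [IsLocallyNoetherian T.left] (E : HilbD.Obj f d T), ∃! h : T ⟶ Z, HilbD.pull f h D.1 = E.1

/-- the map on spectra of a ring extension -/
noncomputable abbrev sp (A B : Type u) [CommRing A] [CommRing B] [Algebra A B] :
    Spec (CommRingCat.of B) ⟶ Spec (CommRingCat.of A) := Spec.map (CommRingCat.ofHom (algebraMap A B))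

end K531.Defs
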