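import Groth.Agent.Neron.K531.Setup
import Groth.Agent.Neron.K279.DivLocus
import Groth.Agent.Neron.K888.EffFin
import Groth.Agent.Picfga.HilbPull
import Groth.Agent.Neron.K711.DimBC
import Groth.Agent.Neron.K217.CompsClass
import Groth.Agent.Neron.K678.Hilb
import Groth.Agent.Neron.K166.DivAsm

/-!
# (PD): the points of the Jacobian over separable extensions come from a projective scheme
-/

set_option autoImplicit false

universe u

open CategoryTheory CategoryTheory.Limits AlgebraicGeometry TopologicalSpace Opposite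
open Groth.Agent Groth.Agent.Grpsch Groth.Agent.Grpsch.PicGrp Groth.Agent.Fga.RigGrp Groth.Agent.Fga.JacFactor
open K530.PicZero K531.Defs K247.BC

namespace K531.PD

/-- A field-valued point lifts along a closed immersion through whose range it factors. -/
theorem exists_lift_closed {F : Type u} [Field F] {Y W : Scheme.{u}} (i : Y ⟶ W) [IsClosedImmersion i]
    (z : Spec (CommRingCat.of F) ⟶ W) (hz : ∀ p, z p ∈ Set.range i) :
    ∃ z' : Spec (CommRingCat.of F) ⟶ Y, z' ≫ i = z := by
  have hs : Surjective (pullback.snd i z) := by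
    refine ⟨fun p => ?_⟩
    obtain ⟨y, hy⟩ := hz p
    obtain ⟨w, -, hw⟩ := Scheme.Pullback.exists_preimage_pullback y p hy
    exact ⟨w, hw⟩
  have hi : IsIso (pullback.snd i z) := isIso_of_isClosedImmersion_of_surjective _
  refine ⟨inv (pullback.snd i z) ≫ pullback.fst i z, ?_⟩
  rw [Category.assoc, pullback.condition, IsIso.inv_hom_id_assoc]

/-- The points of `Hilb^d` over separable extensions lie in the locus of Cartier divisors. -/
theorem mem_divLocus {L : Type u} [Field L] {X : Scheme.{u}} (f : X ⟶ Spec (CommRingCat.of L)) [LocallyOfFiniteType f]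
    (hreg : ∀ x : X, IsRegularLocalRing (X.presheaf.stalk x))
    (hdim : ∀ W ∈ irreducibleComponents (X : Type u), topologicalKrullDim W = 1) {F : Type u} [Field F] [Algebra L F]
    [Algebra.IsSeparable L F] {d : ℕ} (E : HilbD.Obj f d (Over.mk (sp L F))) : BlowUp.IsEffCartierIdeal E.1 := by
  have h1 : LocallyOfFiniteType (PicF.XTproj f (Over.mk (sp L F))) :=
    inferInstanceAs (LocallyOfFiniteType (pullback.snd f (sp L F)))
  have h2 : IsLocallyNoetherian (PicF.XT f (Over.mk (sp L F))) := by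
    have : IsLocallyNoetherian (Over.mk (sp L F)).left := inferInstanceAs (IsLocallyNoetherian (Spec (CommRingCat.of F)))
    exact LocallyOfFiniteType.isLocallyNoetherian (PicF.XTproj f (Over.mk (sp L F)))
  refine (Fga.RelCart.isEffCartier_iff E.1).2 fun x => ?_
  have h3 : IsFinite (E.1.subschemeι ≫ PicF.XTproj f (Over.mk (sp L F))) := E.2.1.1
  exact K888.EffFin.eff_of_isFinite (F := F) (PicF.XTproj f (Over.mk (sp L F))) (Setup.regular_pullback f hreg)
    (Groth.Agent.Neron.K711.DimBC.dim_bc (F := F) f hdim) E.1 x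

/-- **(PD)** -/
theorem main {K : Type u} [Field K] {C : Scheme.{u}} (g : C ⟶ Spec (CommRingCat.of K)) [IsProper g] [GeometricallyReduced g]
    (hC : ∀ x : C, IsRegularLocalRing (C.presheaf.stalk x))
    (hdimC : ∀ W ∈ irreducibleComponents (C : Type u), topologicalKrullDim W = 1)
    (J : Over (Spec (CommRingCat.of K)))
    (φ : ∀ T : Over (Spec (CommRingCat.of K)), PicF.Cl (PicF.XT g T) → (T ⟶ J))
    (hJ : AbDual.IsRelPicZeroK Scheme.fppfPrecoverage g J φ) :
    ∃ (L : Type u) (_ : Field L) (_ : Algebra K L), FiniteDimensional K L ∧ Algebra.IsSeparable K L ∧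
      ∃ (N : ℕ) (Z : Scheme.{u}) (c : Z ⟶ CohB1.ProjSpaceOver N (Spec (CommRingCat.of L))) (_ : IsClosedImmersion c)
        (W : Z.Opens) (h : (W : Scheme.{u}) ⟶ J.left),
        h ≫ J.hom = W.ι ≫ c ≫ CohB1.ProjSpaceOver.toBase N _ ≫ sp K L ∧
        (∀ (F : Type u) [Field F] [Algebra L F] [Algebra.IsSeparable L F] (z : Spec (CommRingCat.of F) ⟶ Z),
          z ≫ c ≫ CohB1.ProjSpaceOver.toBase N _ = sp L F → ∀ p, z p ∈ W) ∧
        ∀ (F : Type u) [Field F] [Algebra L F] [Algebra.IsSeparable L F] (y : Spec (CommRingCat.of F) ⟶ J.left),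
          y ≫ J.hom = sp L F ≫ sp K L →
          ∃ z : Spec (CommRingCat.of F) ⟶ W, z ≫ h = y ∧ z ≫ W.ι ≫ c ≫ CohB1.ProjSpaceOver.toBase N _ = sp L F := by
  obtain ⟨L, _, _, hfd, hsep, ⟨hc⟩⟩ := K472.Comps.exists_comps g hC
  refine ⟨L, _, _, hfd, hsep, ?_⟩
  have hreg := Setup.regular_pullback (F := L) g hC
  have hdim := Groth.Agent.Neron.K711.DimBC.dim_bc (F := L) g hdimC
  set X := pullback g (sp K L) with hX
  let f : X ⟶ Spec (CommRingCat.of L) := pullback.snd g (sp K L)
  obtain ⟨n, i, hi, hif⟩ := Setup.exists_embedding f hdim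
  obtain ⟨d, H, hDV⟩ := K166.DivAsm.exists_divisor f hc hdim i hif
  have hP := K247.BC.isRelPicZeroK g (sp K L) hJ
  obtain ⟨Z, D, N, c, hc1, hc2, hD⟩ := Groth.Agent.Neron.K678.Hilb.exists_hilb f i hif d
  have hZ1 : LocallyOfFiniteType Z.hom := by rw [← hc2]; infer_instance
  have hZ2 : QuasiCompact Z.hom := by rw [← hc2]; infer_instance
  have hZ3 : IsLocallyNoetherian Z.left := LocallyOfFiniteType.isLocallyNoetherian Z.hom
  obtain ⟨Wd, hWd⟩ := K279.DivLocus.exists_divLocus f d Z D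
  obtain ⟨W, h, hW1, hW2, hh, hW3⟩ := Core.core f hP d H (fun s c hc' => hDV s c hc')
    (fun s y => K217.CompsClass.exists_class f hc hP s y) Z D hD Wd hWd
  let I : Z.left.IdealSheafData := Scheme.IdealSheafData.vanishingIdeal ⟨closure (W : Set Z.left), isClosed_closure⟩
  have hI : Set.range I.subschemeι = closure (W : Set Z.left) := by
    rw [Scheme.IdealSheafData.range_subschemeι, Scheme.IdealSheafData.coe_support_vanishingIdeal]
    rfl
  let ι : I.subscheme ⟶ Z.left := I.subschemeι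
  have hι : (ι ∣_ W) ≫ W.ι = (ι ⁻¹ᵁ W).ι ≫ ι := morphismRestrict_ι ι W
  refine ⟨N, I.subscheme, ι ≫ c, inferInstance, ι ⁻¹ᵁ W, (ι ∣_ W) ≫ h ≫ pullback.fst J.hom (sp K L), ?_, ?_, ?_⟩
  · have h1 : h ≫ pullback.snd J.hom (sp K L) = W.ι ≫ Z.hom := hh
    rw [Category.assoc, Category.assoc, pullback.condition, ← Category.assoc h, h1, ← hc2]
    simp only [Category.assoc]
    rw [← Category.assoc (ι ∣_ W), hι, Category.assoc]
  · intro F _ _ _ z hz p
    let t : Over.mk (sp L F) ⟶ Z := Over.homMk (z ≫ ι) (by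
      change (z ≫ ι) ≫ Z.hom = sp L F
      rw [← hc2, ← hz]
      simp only [Category.assoc])
    have : IsLocallyNoetherian (Over.mk (sp L F)).left := inferInstanceAs (IsLocallyNoetherian (Spec (CommRingCat.of F)))
    have h1 : Set.range t.left ⊆ (Wd : Set Z.left) :=
      (hWd _ t).2 (mem_divLocus f hreg hdim (Picfga.HilbPull.pullObj f t D))
    have h2 : (z ≫ ι) p ∈ Wd := h1 ⟨p, rfl⟩
    have h3 : (z ≫ ι) p ∈ closure (W : Set Z.left) := by
      rw [← hI, Scheme.Hom.comp_apply]
      exact ⟨z p, rfl⟩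
    exact hW2 _ h3 h2
  · intro F _ _ _ y hy
    let y' : Over.mk (sp L F) ⟶ bcP (sp K L) J :=
      K247.BC.lift (sp K L) (Over.homMk y hy : dn (sp K L) (Over.mk (sp L F)) ⟶ J)
    obtain ⟨z, hz1, hz2⟩ := hW3 y'
    obtain ⟨z', hz'⟩ := exists_lift_closed (ι ∣_ W) z (by
      intro p
      have h1 : (W.ι (z p)) ∈ Set.range ι := by
        rw [hI]
        exact subset_closure (z p).2
      obtain ⟨x, hx⟩ := h1
      have h2 : x ∈ ι ⁻¹ᵁ W := by
        change ι x ∈ W
        rw [hx]
        exact (z p).2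
      refine ⟨⟨x, h2⟩, ?_⟩
      apply W.ι.isOpenEmbedding.injective
      rw [← Scheme.Hom.comp_apply, hι, Scheme.Hom.comp_apply]
      exact hx)
    refine ⟨z', ?_, ?_⟩
    · rw [← Category.assoc, hz', ← Category.assoc, hz1]
      exact pullback.lift_fst _ _ _
    · have e1 : (ι ⁻¹ᵁ W).ι ≫ (ι ≫ c) ≫ CohB1.ProjSpaceOver.toBase N _ = ((ι ∣_ W) ≫ W.ι) ≫ Z.hom := by
        rw [hι, ← hc2]
        simp only [Category.assoc]
      rw [e1, Category.assoc, ← Category.assoc z', hz', hz2]

end K531.PD
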