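import Groth.Agent.Neron.K531.Defs
import Groth.Agent.PicF.K247.BC
import Groth.Agent.Picfga.HilbPull
import Groth.Agent.Divis.EffCartier
import Groth.Agent.Fga.RelCart

/-!
# Base change of the Hilbert scheme of points and of the locus of Cartier divisors

For a cartesian square `X = Y ×_V S'`.
-/

set_option autoImplicit false

universe u

open CategoryTheory CategoryTheory.Limits AlgebraicGeometry TopologicalSpace Opposite
open Groth.Agent Groth.Agent.Grpsch Groth.Agent.Grpsch.PicGrp Groth.Agent.Fga.RigGrp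
open K530.PicZero K531.Defs K247.BC

namespace K531.HilbBC

variable {X Y V S' : Scheme.{u}} {h : Y ⟶ V} {b : S' ⟶ V} {f : X ⟶ S'} {p : X ⟶ Y}

/-- `X ×_{S'} T = Y ×_V T`. -/
noncomputable def m (H : IsPullback p f h b) (T : Over S') : PicF.XT f T ⟶ PicF.XT h (dn b T) :=
  pullback.lift (pullback.fst f T.hom ≫ p) (pullback.snd f T.hom) (by
    change (pullback.fst f T.hom ≫ p) ≫ h = pullback.snd f T.hom ≫ T.hom ≫ b
    rw [Category.assoc, H.w, ← Category.assoc, pullback.condition, Category.assoc])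

variable (H : IsPullback p f h b)

theorem m_fst (T : Over S') : m H T ≫ pullback.fst h (dn b T).hom = pullback.fst f T.hom ≫ p := pullback.lift_fst _ _ _

theorem m_proj (T : Over S') : m H T ≫ PicF.XTproj h (dn b T) = PicF.XTproj f T := pullback.lift_snd _ _ _

instance isIso_m (T : Over S') : IsIso (m H T) := by
  have h1 : IsPullback (pullback.fst f T.hom ≫ p) (pullback.snd f T.hom) h (T.hom ≫ b) :=
    (IsPullback.of_hasPullback f T.hom).paste_horiz H
  have h2 : IsPullback (pullback.fst h (T.hom ≫ b)) (pullback.snd h (T.hom ≫ b)) h (T.hom ≫ b) :=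
    IsPullback.of_hasPullback _ _
  have h3 : m H T = (h1.isoIsPullback _ _ h2).hom := by
    apply h2.hom_ext
    · rw [IsPullback.isoIsPullback_hom_fst]
      exact m_fst H T
    · rw [IsPullback.isoIsPullback_hom_snd]
      exact m_proj H T
  rw [h3]
  infer_instance

theorem m_natural {T T' : Over S'} (g : T' ⟶ T) :
    PicF.XTmap f g ≫ m H T = m H T' ≫ PicF.XTmap h (dnHom b g) := by
  apply pullback.hom_ext
  · rw [Category.assoc, m_fst, XTmap_fst_assoc, Category.assoc, XTmap_fst, m_fst]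
  · have h1 := m_proj H T
    have h2 := m_proj H T'
    change (PicF.XTmap f g ≫ m H T) ≫ PicF.XTproj h (dn b T) =
      (m H T' ≫ PicF.XTmap h (dnHom b g)) ≫ PicF.XTproj h (dn b T)
    rw [Category.assoc, h1, Category.assoc, XTmap_XTproj, XTmap_XTproj, ← Category.assoc, h2]
    rfl

/-- the subscheme of a comap along an isomorphism -/
theorem isFinLocFreeOfDeg_comap {A B T : Scheme.{u}} (e : A ⟶ B) [IsIso e] (I : B.IdealSheafData) (a : A ⟶ T)
    (c : B ⟶ T) (h : e ≫ c = a) (d : ℕ) (hI : Mor2.IsFinLocFreeOfDeg d (I.subschemeι ≫ c)) :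
    Mor2.IsFinLocFreeOfDeg d ((I.comap e).subschemeι ≫ a) := by
  have h1 := Fga.RelCart.isPullback_comap I e
  have h2 : IsIso ((I.comapIso e).hom ≫ pullback.snd e I.subschemeι) := by
    have : IsIso (pullback.snd e I.subschemeι) := inferInstance
    infer_instance
  have h3 : IsPullback ((I.comapIso e).hom ≫ pullback.snd e I.subschemeι) ((I.comap e).subschemeι ≫ a)
      (I.subschemeι ≫ c) (𝟙 T) := by
    refine IsPullback.of_horiz_isIso ⟨?_⟩
    rw [Category.comp_id, ← h, ← Category.assoc, ← h1.w, Category.assoc]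
  exact Picfga.HilbPull.isFinLocFreeOfDeg_of_isPullback h3 hI

theorem exists_univLN {d : ℕ} (Z : Over V) (D : HilbD.Obj h d Z) (hD : UnivLN h d Z D) :
    ∃ D' : HilbD.Obj f d (bcP b Z), UnivLN f d (bcP b Z) D' ∧
        D'.1 = (HilbD.pull h (pr b Z) D.1).comap (m H (bcP b Z)) := by
  refine ⟨⟨(HilbD.pull h (pr b Z) D.1).comap (m H (bcP b Z)), ?_⟩, ?_, rfl⟩
  · exact isFinLocFreeOfDeg_comap _ _ _ _ (m_proj H _) d (Picfga.HilbPull.isFinLocFreeOfDeg_pull h (pr b Z) D.2)
  · intro T _ E
    have key : ∀ g : T ⟶ bcP b Z, HilbD.pull f g ((HilbD.pull h (pr b Z) D.1).comap (m H (bcP b Z))) =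
        (HilbD.pull h (dnHom b g ≫ pr b Z) D.1).comap (m H T) := by
      intro g
      rw [Picfga.HilbPull.pull_eq_comap, Picfga.HilbPull.pull_eq_comap, Picfga.HilbPull.pull_eq_comap,
        ← Scheme.IdealSheafData.comap_comp, ← Scheme.IdealSheafData.comap_comp, ← Scheme.IdealSheafData.comap_comp,
        XTmap_comp, ← Category.assoc (m H T), ← m_natural]
    have hinj : ∀ I J : (PicF.XT h (dn b T)).IdealSheafData, I.comap (m H T) = J.comap (m H T) → I = J := by
      intro I J hIJ
      have h1 := congrArg (fun z : (PicF.XT f T).IdealSheafData => z.comap (inv (m H T))) hIJ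
      simpa only [← Scheme.IdealSheafData.comap_comp, IsIso.inv_hom_id, Scheme.IdealSheafData.comap_id] using h1
    have hE : Mor2.IsFinLocFreeOfDeg d ((E.1.comap (inv (m H T))).subschemeι ≫ PicF.XTproj h (dn b T)) := by
      refine isFinLocFreeOfDeg_comap (inv (m H T)) E.1 _ (PicF.XTproj f T) ?_ d E.2
      rw [IsIso.inv_comp_eq]
      exact (m_proj H T).symm
    have : IsLocallyNoetherian (dn b T).left := ‹IsLocallyNoetherian T.left›
    obtain ⟨t, ht, ht'⟩ := hD (dn b T) ⟨E.1.comap (inv (m H T)), hE⟩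
    have hEE : (E.1.comap (inv (m H T))).comap (m H T) = E.1 := by
      rw [← Scheme.IdealSheafData.comap_comp, IsIso.hom_inv_id, Scheme.IdealSheafData.comap_id]
    refine ⟨K247.BC.lift b t, ?_, ?_⟩
    · change HilbD.pull f (K247.BC.lift b t) ((HilbD.pull h (pr b Z) D.1).comap (m H (bcP b Z))) = E.1
      rw [key, lift_pr, ht]
      exact hEE
    · intro g hg
      change HilbD.pull f g ((HilbD.pull h (pr b Z) D.1).comap (m H (bcP b Z))) = E.1 at hg
      rw [key] at hg
      apply hom_ext_bc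
      rw [lift_pr]
      refine ht' _ (hinj _ _ ?_)
      rw [hg]
      exact hEE.symm

theorem isEff_comap_iso {A B : Scheme.{u}} (e : A ⟶ B) [IsIso e] (I : B.IdealSheafData) :
    BlowUp.IsEffCartierIdeal (I.comap e) ↔ BlowUp.IsEffCartierIdeal I := by
  constructor
  · intro h
    have h1 := Divis.EffCartier.isEff_comap_flat h (inv e)
    rwa [← Scheme.IdealSheafData.comap_comp, IsIso.inv_hom_id, Scheme.IdealSheafData.comap_id] at h1
  · exact fun h => Divis.EffCartier.isEff_comap_flat h e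

/-- The Cartier locus after base change. -/
theorem divLocus_bc {d : ℕ} (Z : Over V) (D : HilbD.Obj h d Z) (D' : HilbD.Obj f d (bcP b Z))
    (hD' : D'.1 = (HilbD.pull h (pr b Z) D.1).comap (m H (bcP b Z))) (U : Z.left.Opens)
    (hU : ∀ (T : Over V) [IsLocallyNoetherian T.left] (t : T ⟶ Z),
      Set.range t.left ⊆ (U : Set Z.left) ↔ BlowUp.IsEffCartierIdeal (HilbD.pull h t D.1))
    (T : Over S') [IsLocallyNoetherian T.left] (t : T ⟶ bcP b Z) :
    Set.range t.left ⊆ ((pullback.fst Z.hom b ⁻¹ᵁ U : (pullback Z.hom b).Opens) : Set ↥(pullback Z.hom b)) ↔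
      BlowUp.IsEffCartierIdeal (HilbD.pull f t D'.1) := by
  have : IsLocallyNoetherian (dn b T).left := ‹IsLocallyNoetherian T.left›
  have h1 := hU (dn b T) (dnHom b t ≫ pr b Z)
  have h2 : HilbD.pull f t D'.1 = (HilbD.pull h (dnHom b t ≫ pr b Z) D.1).comap (m H T) := by
    rw [hD', Picfga.HilbPull.pull_eq_comap, Picfga.HilbPull.pull_eq_comap, Picfga.HilbPull.pull_eq_comap,
      ← Scheme.IdealSheafData.comap_comp, ← Scheme.IdealSheafData.comap_comp, ← Scheme.IdealSheafData.comap_comp,
      XTmap_comp, ← Category.assoc (m H T), ← m_natural]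
  rw [h2, isEff_comap_iso, ← h1]
  constructor
  · rintro h3 _ ⟨x, rfl⟩
    exact h3 ⟨x, rfl⟩
  · rintro h3 _ ⟨x, rfl⟩
    exact h3 ⟨x, rfl⟩

end K531.HilbBC
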