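import Groth.Agent.Neron.K531.PD
import Groth.Agent.Neron.K531.HilbBC
import Groth.Agent.Neron.K753.Model
import Groth.Agent.Neron.K765.SpreadOpen
import Groth.Agent.Neron.K587.WEField
import Groth.Agent.Neron.K798.RegDvr
import Groth.Agent.EtDesc.K223.WESec
import Mathlib.AlgebraicGeometry.ValuativeCriterion

/-!
# (PG): good models of the Jacobian have the extension property at almost all places
-/

set_option autoImplicit false

universe u

open CategoryTheory CategoryTheory.Limits AlgebraicGeometry TopologicalSpace Opposite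
open Groth.Agent Groth.Agent.Grpsch Groth.Agent.Grpsch.PicGrp Groth.Agent.Fga.RigGrp Groth.Agent.Fga.JacFactor
open K530.PicZero K531.Defs K247.BC

namespace K531.PG

/-- The existence part of the valuative criterion. -/
theorem exists_lift_of_isProper {X S : Scheme.{u}} (f : X ⟶ S) [IsProper f] {R K : Type u} [CommRing R] [IsDomain R]
    [ValuationRing R] [Field K] [Algebra R K] [IsFractionRing R K] (x : Spec (CommRingCat.of K) ⟶ X)
    (y : Spec (CommRingCat.of R) ⟶ S) (w : x ≫ f = sp R K ≫ y) :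
    ∃ z : Spec (CommRingCat.of R) ⟶ X, z ≫ f = y ∧ sp R K ≫ z = x := by
  have hv : (ValuativeCriterion ⊓ @QuasiCompact ⊓ @QuasiSeparated ⊓ @LocallyOfFiniteType) f := by
    rw [← IsProper.eq_valuativeCriterion]; infer_instance
  obtain ⟨⟨l, h1, h2⟩⟩ := (hv.1.1.1.existence
    { R := R
      K := K
      i₁ := x
      i₂ := y
      commSq := ⟨w⟩ }).exists_lift
  exact ⟨l, h2, h1⟩

/-- Lifting along étale morphisms from strictly henselian local rings. -/
theorem exists_lift_etale {V S : Scheme.{u}} (v : V ⟶ S) [Etale v] {R : Type u} [CommRing R] [HenselianLocalRing R]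
    [IsSepClosed (IsLocalRing.ResidueField R)] (r : Spec (CommRingCat.of R) ⟶ S)
    (hr : r (IsLocalRing.closedPoint R) ∈ Set.range v) : ∃ r' : Spec (CommRingCat.of R) ⟶ V, r' ≫ v = r := by
  obtain ⟨x, hx⟩ := hr
  obtain ⟨w, -, hw⟩ := Scheme.Pullback.exists_preimage_pullback (f := v) (g := r) x (IsLocalRing.closedPoint R) hx
  obtain ⟨s, hs, -⟩ := K223.WESec.exists_section (pullback.snd v r) w hw
  refine ⟨s ≫ pullback.fst v r, ?_⟩
  rw [Category.assoc, pullback.condition, ← Category.assoc, hs, Category.id_comp]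

theorem mem_range_sp (R F : Type u) [CommRing R] [IsDomain R] [IsDiscreteValuationRing R] [Field F] [Algebra R F]
    [IsFractionRing R F] (x : Spec (CommRingCat.of R)) (hx : x ≠ IsLocalRing.closedPoint R) : x ∈ Set.range (sp R F) := by
  refine ⟨IsLocalRing.closedPoint F, ?_⟩
  have h1 : x.asIdeal = ⊥ := by
    by_contra h
    have h2 : x.asIdeal.IsMaximal := Ring.DimensionLEOne.maximalOfPrime h x.2
    exact hx (PrimeSpectrum.ext (IsLocalRing.eq_maximalIdeal h2))
  apply PrimeSpectrum.ext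
  rw [h1]
  change Ideal.comap (algebraMap R F) (IsLocalRing.maximalIdeal F) = ⊥
  rw [IsLocalRing.maximalIdeal_eq_bot, ← RingHom.ker_eq_comap_bot, RingHom.ker_eq_bot_iff_eq_zero]
  exact fun r hr => (map_eq_zero_iff _ (IsFractionRing.injective R F)).1 hr

/-- A dvr-valued point of `Hilb^d` of a regular surface which is generically a Cartier divisor is one. -/
theorem range_subset_divLocus {V Y : Scheme.{u}} [IsLocallyNoetherian V] (h : Y ⟶ V) [IsProper h] [Flat h] {d : ℕ}
    (Z : Over V) (D : HilbD.Obj h d Z) (Ud : Z.left.Opens)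
    (hUd : ∀ (T : Over V) [IsLocallyNoetherian T.left] (t : T ⟶ Z),
      Set.range t.left ⊆ (Ud : Set Z.left) ↔ BlowUp.IsEffCartierIdeal (HilbD.pull h t D.1))
    (R F : Type u) [CommRing R] [IsDomain R] [IsDiscreteValuationRing R] [Field F] [Algebra R F] [IsFractionRing R F]
    (r : Spec (CommRingCat.of R) ⟶ V)
    (hr : ∀ y : ↥(pullback h r), IsRegularLocalRing ((pullback h r).presheaf.stalk y) ∧
          ringKrullDim ((pullback h r).presheaf.stalk y) ≤ 2)
    (t : Spec (CommRingCat.of R) ⟶ Z.left) (ht : t ≫ Z.hom = r) (htF : ∀ p, (sp R F ≫ t) p ∈ Ud) :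
    Set.range t ⊆ (Ud : Set Z.left) := by
  let T : Over V := Over.mk r
  let TF : Over V := Over.mk (sp R F ≫ r)
  have hT : IsLocallyNoetherian T.left := inferInstanceAs (IsLocallyNoetherian (Spec (CommRingCat.of R)))
  have hTF : IsLocallyNoetherian TF.left := inferInstanceAs (IsLocallyNoetherian (Spec (CommRingCat.of F)))
  let t' : T ⟶ Z := Over.homMk t ht
  let j : TF ⟶ T := Over.homMk (sp R F)
  have h1 : BlowUp.IsEffCartierIdeal (HilbD.pull h (j ≫ t') D.1) := by
    rw [← hUd]
    rintro _ ⟨p, rfl⟩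
    exact htF p
  have hXT : LocallyOfFiniteType (PicF.XTproj h T) := inferInstanceAs (LocallyOfFiniteType (pullback.snd h r))
  have hXTF : LocallyOfFiniteType (PicF.XTproj h TF) :=
    inferInstanceAs (LocallyOfFiniteType (pullback.snd h (sp R F ≫ r)))
  have hN : IsLocallyNoetherian (PicF.XT h T) := LocallyOfFiniteType.isLocallyNoetherian (PicF.XTproj h T)
  have hNF : IsLocallyNoetherian (PicF.XT h TF) := LocallyOfFiniteType.isLocallyNoetherian (PicF.XTproj h TF)
  have h2 := (Fga.RelCart.isEffCartier_iff _).1 h1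
  change Set.range t'.left ⊆ _
  rw [hUd T t']
  refine (Fga.RelCart.isEffCartier_iff _).2 fun x => ?_
  have hfl : Flat ((HilbD.pull h t' D.1).subschemeι ≫ PicF.XTproj h T) :=
    (Picfga.HilbPull.isFinLocFreeOfDeg_pull h t' D.2).1.2.1
  refine K798.RegDvr.eff_of_dvr (PicF.XTproj h T) (fun x => (hr x).1) (fun x => (hr x).2) (HilbD.pull h t' D.1)
    (fun x hx => ?_) x
  have H := Picfga.HilbPull.isPullback_XTmap h j
  have hjfl : Flat (sp R F) := by
    rw [Flat.SpecMap_iff]
    exact (RingHom.flat_algebraMap_iff).2 (IsLocalization.flat F (nonZeroDivisors R))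
  have hfl2 : Flat (PicF.XTmap h j) := MorphismProperty.of_isPullback (P := @Flat) H.flip hjfl
  obtain ⟨q, hq⟩ := mem_range_sp R F _ hx
  obtain ⟨x', hx'⟩ : ∃ x', PicF.XTmap h j x' = x := by
    obtain ⟨w, hw, -⟩ := Scheme.Pullback.exists_preimage_pullback (f := PicF.XTproj h T) (g := j.left) x q hq.symm
    refine ⟨H.isoPullback.inv w, ?_⟩
    rw [← Scheme.Hom.comp_apply, H.isoPullback_inv_fst]
    exact hw
  rw [← hx', Fga.RelCart.eff_iff_flat, ← Picfga.HilbPull.pull_eq_comap, ← Picfga.HilbPull.pull_comp]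
  exact h2 x'

/-- **(PG)** -/
theorem main {S : Scheme.{u}} [IsIntegral S] [IsNoetherian S] (hregS : ∀ s : S, IsRegularLocalRing (S.presheaf.stalk s))
    (hdimS : topologicalKrullDim S = 1) (hexc : ∀ U : S.affineOpens, EGA4.IsExcellent Γ(S, U))
    {C : Scheme.{u}} (g : C ⟶ Spec (CommRingCat.of S.functionField)) [IsProper g] [GeometricallyReduced g]
    (hC : ∀ x : C, IsRegularLocalRing (C.presheaf.stalk x))
    (hdimC : ∀ W ∈ irreducibleComponents (C : Type u), topologicalKrullDim W = 1)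
    (J : Over (Spec (CommRingCat.of S.functionField)))
    (φ : ∀ T : Over (Spec (CommRingCat.of S.functionField)), PicF.Cl (PicF.XT g T) → (T ⟶ J))
    (hJ : AbDual.IsRelPicZeroK Scheme.fppfPrecoverage g J φ)
    {G : Scheme.{u}} (γ : G ⟶ S) [LocallyOfFiniteType γ] [IsSeparated γ] [QuasiCompact γ]
    (κ : Spec (CommRingCat.of S.functionField) ⟶ S) (hκ : κ = S.fromSpecStalk (genericPoint S))
    (e : pullback γ κ ≅ J.left) (he : e.hom ≫ J.hom = pullback.snd γ κ) :
    ∃ U : S.Opens, genericPoint S ∈ U ∧ ∀ (R F : Type u) [CommRing R] [IsDomain R] [IsDiscreteValuationRing R]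
      [HenselianLocalRing R] [IsSepClosed (IsLocalRing.ResidueField R)] [Field F] [Algebra R F] [IsFractionRing R F]
      (r : Spec (CommRingCat.of R) ⟶ S), WeaklyEtale r → r (IsLocalRing.closedPoint R) ∈ U →
      ∀ y : Spec (CommRingCat.of F) ⟶ G, y ≫ γ = sp R F ≫ r →
        ∃ z : Spec (CommRingCat.of R) ⟶ G, z ≫ γ = r ∧ sp R F ≫ z = y := by
  obtain ⟨L, _, _, hfd, hsep, ⟨hc⟩⟩ := K472.Comps.exists_comps g hC
  have hreg := Setup.regular_pullback (F := L) g hC
  have hdim := Groth.Agent.Neron.K711.DimBC.dim_bc (F := L) g hdimC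
  set X := pullback g (sp S.functionField L) with hX
  let f : X ⟶ Spec (CommRingCat.of L) := pullback.snd g (sp S.functionField L)
  obtain ⟨n, i, hi, hif⟩ := Setup.exists_embedding f hdim
  obtain ⟨d, H, hDV⟩ := K166.DivAsm.exists_divisor f hc hdim i hif
  have hP := K247.BC.isRelPicZeroK g (sp S.functionField L) hJ
  obtain ⟨V, _, _, v, _, η, Y, h, k, p, hηv, hη, hk, hkh, hfl, Hpb, hmod⟩ :=
    K753.Model.exists_model hregS hdimS hexc L f i hif hreg hdim
  rw [← hκ] at hηv
  have hhp : IsProper h := by rw [← hkh]; infer_instance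
  obtain ⟨Z, D, N, c, hc1, hc2, hD⟩ := Groth.Agent.Neron.K678.Hilb.exists_hilb h k hkh d
  have hZ0 : IsProper Z.hom := by rw [← hc2]; infer_instance
  have hZ3 : IsLocallyNoetherian Z.left := LocallyOfFiniteType.isLocallyNoetherian Z.hom
  obtain ⟨Ud, hUd⟩ := K279.DivLocus.exists_divLocus h d Z D
  obtain ⟨D', hD', hDD'⟩ := HilbBC.exists_univLN Hpb Z D hD
  have hWd' := fun T hT t => @HilbBC.divLocus_bc _ _ _ _ _ _ _ _ Hpb d Z D D' hDD' Ud hUd T hT t
  have hZη1 : LocallyOfFiniteType (bcP η Z).hom := inferInstanceAs (LocallyOfFiniteType (pullback.snd Z.hom η))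
  have hZη2 : QuasiCompact (bcP η Z).hom := inferInstanceAs (QuasiCompact (pullback.snd Z.hom η))
  obtain ⟨W, a, hW1, hW2, hha, hW3⟩ := Core.core f hP d H (fun s c hc' => hDV s c hc')
    (fun s y => K217.CompsClass.exists_class f hc hP s y) (bcP η Z) D' hD' (pullback.fst Z.hom η ⁻¹ᵁ Ud)
    (fun T hT t => hWd' T hT t)
  -- the model over `V` and the morphism on the generic fibre
  let GV := pullback γ v
  let gV : GV ⟶ V := pullback.snd γ v
  have hha' : a ≫ pullback.snd J.hom (sp S.functionField L) = W.ι ≫ pullback.snd Z.hom η := hha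
  let a₀ : (W : Scheme.{u}) ⟶ G := a ≫ pullback.fst J.hom (sp S.functionField L) ≫ e.inv ≫ pullback.fst γ κ
  have ha₀ : a₀ ≫ γ = (W.ι ≫ pullback.fst Z.hom η ≫ Z.hom) ≫ v := by
    have e1 : e.inv ≫ pullback.snd γ κ = J.hom := by rw [Iso.inv_comp_eq, he]
    have e2 : a₀ ≫ γ = a ≫ pullback.fst J.hom (sp S.functionField L) ≫ (e.inv ≫ pullback.snd γ κ) ≫ κ := by
      simp only [a₀, Category.assoc, pullback.condition]
    rw [e2, e1, ← Category.assoc (pullback.fst _ _), pullback.condition, Category.assoc, ← hηv, ← Category.assoc,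
      hha', pullback.condition]
    simp only [Category.assoc]
  let aV : (W : Scheme.{u}) ⟶ GV := pullback.lift a₀ (W.ι ≫ pullback.fst Z.hom η ≫ Z.hom) ha₀
  have haV : aV ≫ gV = W.ι ≫ pullback.fst Z.hom η ≫ Z.hom := pullback.lift_snd _ _ _
  obtain ⟨V', hV'gen, hV'⟩ := K765.SpreadOpen.exists_open η hη Z.hom Ud gV W hW1 hW2 aV haV
  let U : S.Opens := ⟨v '' (V' : Set V), v.isOpenMap _ V'.2⟩
  refine ⟨U, ?_, ?_⟩
  · exact ((genericPoint_spec S).mem_open_set_iff U.2).2 ⟨v (genericPoint V), trivial, ⟨_, hV'gen, rfl⟩⟩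
  · intro R F _ _ _ _ _ _ _ _ r hr hrU y hy
    have hrV' : r (IsLocalRing.closedPoint R) ∈ Set.range (V'.ι ≫ v) := by
      obtain ⟨x, hx, hx'⟩ := hrU
      exact ⟨⟨x, hx⟩, hx'⟩
    obtain ⟨r₁, hr₁⟩ := exists_lift_etale (V'.ι ≫ v) r hrV'
    let r' : Spec (CommRingCat.of R) ⟶ V := r₁ ≫ V'.ι
    have hr' : r' ≫ v = r := by rw [Category.assoc, hr₁]
    have hr'V : Set.range r' ⊆ (V' : Set V) := by
      rintro _ ⟨x, rfl⟩
      exact (r₁ x).2
    have hwe : WeaklyEtale (r' ≫ v) := by rw [hr']; exact hr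
    have hwe' : WeaklyEtale r' := WeaklyEtale.of_comp r' v
    obtain ⟨ρ, hρ, hρsep⟩ := K587.WEField.exists_ringHom_separable η hη R F r'
    let _ : Algebra L F := ρ.toAlgebra
    have hsepF : Algebra.IsSeparable L F := hρsep
    have hρ' : sp L F ≫ η = sp R F ≫ r' := hρ
    have hyJ : y ≫ γ = (sp L F ≫ sp S.functionField L) ≫ κ := by
      rw [hy, Category.assoc, ← hηv, ← Category.assoc, hρ', Category.assoc, hr']
    let yJ : Spec (CommRingCat.of F) ⟶ J.left := pullback.lift y (sp L F ≫ sp S.functionField L) hyJ ≫ e.hom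
    have hyJ' : yJ ≫ J.hom = sp L F ≫ sp S.functionField L := by
      rw [Category.assoc, he]
      exact pullback.lift_snd _ _ _
    let y' : Over.mk (sp L F) ⟶ bcP (sp S.functionField L) J :=
      K247.BC.lift (sp S.functionField L) (Over.homMk yJ hyJ' : dn (sp S.functionField L) (Over.mk (sp L F)) ⟶ J)
    obtain ⟨z, hz1, hz2⟩ := hW3 y'
    have hz2' : z ≫ W.ι ≫ pullback.snd Z.hom η = sp L F := hz2
    let z₀ : Spec (CommRingCat.of F) ⟶ Z.left := z ≫ W.ι ≫ pullback.fst Z.hom η
    have hz₀ : z₀ ≫ Z.hom = sp R F ≫ r' := by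
      rw [← hρ', ← hz2']
      simp only [z₀, Category.assoc, pullback.condition]
    obtain ⟨t, ht1, ht2⟩ := exists_lift_of_isProper Z.hom z₀ r' hz₀
    have htU : Set.range t ⊆ (Ud : Set Z.left) := by
      refine range_subset_divLocus h Z D Ud hUd R F r' (hmod R r' hwe') t ht1 fun q => ?_
      rw [ht2]
      exact hW1 (z q).2
    obtain ⟨w, hw1, hw2⟩ := hV' R F r' hr'V t ht1 htU z ht2.symm
    refine ⟨w ≫ pullback.fst γ v, ?_, ?_⟩
    · rw [Category.assoc, pullback.condition, ← Category.assoc]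
      change (w ≫ gV) ≫ v = r
      rw [hw1, hr']
    · rw [← Category.assoc, hw2, Category.assoc]
      have e3 : aV ≫ pullback.fst γ v = a₀ := pullback.lift_fst _ _ _
      have e4 : y'.left ≫ pullback.fst J.hom (sp S.functionField L) = yJ := pullback.lift_fst _ _ _
      rw [e3]
      simp only [a₀]
      rw [← Category.assoc z, hz1, ← Category.assoc, e4]
      simp only [yJ, Category.assoc, Iso.hom_inv_id_assoc]
      exact pullback.lift_fst _ _ _

end K531.PG
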