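import Groth.Agent.PicF.K247.QcZero
import Groth.Agent.AbVar.K530.PicZero
import Groth.Agent.Pic13.H966.Spread
import Groth.Agent.ZCorr.K952.LiftPt
import Groth.Agent.Neron.K531.Defs

/-!
# The locus where a family of invertible modules is algebraically trivial is open and closed

`f : X ⟶ Spec L`, `q : W ⟶ Spec L` of finite type, `L` a field, `c` a class on `X ×_L W`.
-/

set_option autoImplicit false

universe u

open CategoryTheory CategoryTheory.Limits AlgebraicGeometry TopologicalSpace Opposite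
open Groth.Agent Groth.Agent.Grpsch Groth.Agent.Grpsch.PicGrp
open K530.PicZero Groth.Agent.Pic13.H138.AlgEquiv K247.QcZero

namespace K531.Clopen

/-- membership in `alg0` of the restriction to a geometric fibre. -/
def At {Y T : Scheme.{u}} (g : Y ⟶ T) (c : Pic Y) {Ω : Type u} [Field Ω] [IsAlgClosed Ω]
    (σ : Spec (CommRingCat.of Ω) ⟶ T) : Prop :=
  pull (pullback.fst g σ) c ∈ @alg0 Ω _ (pullback g σ) (fibOver g σ) _

section At

variable {Y T Y' T' : Scheme.{u}} {g : Y ⟶ T} {g' : Y' ⟶ T'} {h : Y' ⟶ Y} {t : T' ⟶ T} {Ω : Type u} [Field Ω]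
  [IsAlgClosed Ω]

theorem At.pull {c : Pic Y} (w : h ≫ g = g' ≫ t) {σ : Spec (CommRingCat.of Ω) ⟶ T'} (hc : At g c (σ ≫ t)) :
    At g' (PicGrp.pull h c) σ := by
  let p : pullback g' σ ⟶ pullback g (σ ≫ t) :=
    pullback.lift (pullback.fst g' σ ≫ h) (pullback.snd g' σ) (by
      rw [Category.assoc, w, pullback.condition_assoc])
  have h1 := @pull_mem_alg0 Ω _ (pullback g (σ ≫ t)) (fibOver g (σ ≫ t)) _ (pullback g' σ) (fibOver g' σ) p
    (pullback.lift_snd _ _ _) _ hc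
  rw [← pull_comp, pullback.lift_fst, pull_comp] at h1
  exact h1

theorem At.of_pull {c : Pic Y} (H : IsPullback h g' g t) {σ : Spec (CommRingCat.of Ω) ⟶ T'}
    (hc : At g' (PicGrp.pull h c) σ) : At g c (σ ≫ t) := by
  let p : pullback g (σ ≫ t) ⟶ pullback g' σ :=
    pullback.lift (H.lift (pullback.fst g (σ ≫ t)) (pullback.snd g (σ ≫ t) ≫ σ) (by
      rw [Category.assoc, pullback.condition])) (pullback.snd g (σ ≫ t)) (H.lift_snd _ _ _)
  have h1 := @pull_mem_alg0 Ω _ (pullback g' σ) (fibOver g' σ) _ (pullback g (σ ≫ t)) (fibOver g (σ ≫ t)) p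
    (pullback.lift_snd _ _ _) _ hc
  have h2 : (p ≫ pullback.fst g' σ) ≫ h = pullback.fst g (σ ≫ t) := by
    rw [pullback.lift_fst, H.lift_fst]
  rw [← pull_comp, ← pull_comp, h2] at h1
  exact h1

theorem at_iff {c : Pic Y} (H : IsPullback h g' g t) {σ : Spec (CommRingCat.of Ω) ⟶ T'} :
    At g' (PicGrp.pull h c) σ ↔ At g c (σ ≫ t) := ⟨At.of_pull H, At.pull H.w⟩

end At

section AlgClosed

variable {Ω : Type u} [Field Ω] [IsAlgClosed Ω] {X : Scheme.{u}} (f : X ⟶ Spec (CommRingCat.of Ω))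

/-- Algebraically trivial classes stay so over bigger algebraically closed fields. -/
theorem fibZero_of_mem {c : Pic X} (h : c ∈ @alg0 Ω _ X ⟨f⟩ _) : FibZero f c := by
  obtain ⟨T, q, h1, h2, h3, M, t, t₀, ht, ht₀, rfl, e₀⟩ := (mem_alg0_iff' f c).1 h
  have := fibZero_of_connected (f := f) q t₀ ht₀ M e₀
  exact FibZero.pull (sl f q t ht) t (sl_proj f q t ht) this

theorem fibZero_of_connected' {T : Scheme.{u}} (p : T ⟶ Spec (CommRingCat.of Ω)) [ConnectedSpace T]
    [LocallyOfFiniteType p] [QuasiCompact p] (t₀ : Spec (CommRingCat.of Ω) ⟶ T) (ht₀ : t₀ ≫ p = 𝟙 _)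
    (M : Pic (PicF.XT f (Over.mk p))) (h : FibZero f (pull (sl f p t₀ ht₀) M)) :
    FibZero (PicF.XTproj f (Over.mk p)) M := by
  set a := pull (sl f p t₀ ht₀) M with ha
  have h1 : FibZero (PicF.XTproj f (Over.mk p)) (pull (pullback.fst f (Over.mk p).hom) a) :=
    FibZero.pull _ p pullback.condition h
  have h2 : FibZero (PicF.XTproj f (Over.mk p)) (M * (pull (pullback.fst f (Over.mk p).hom) a)⁻¹) := by
    refine fibZero_of_connected (f := f) p t₀ ht₀ _ ?_
    rw [map_mul, map_inv, ← pull_comp, sl_fst, pull_id, ← ha, mul_inv_cancel]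
  have h3 := h2.mul h1
  rwa [inv_mul_cancel_right] at h3

end AlgClosed


section Field

variable {L : Type u} [Field L] {X W : Scheme.{u}} (f : X ⟶ Spec (CommRingCat.of L)) (q : W ⟶ Spec (CommRingCat.of L))

/-- The comparison `X_{Ω} ×_Ω T₀ ⟶ X ×_L W` for `v : T₀ ⟶ W` and `p₀ : T₀ ⟶ Spec Ω` over `e : Spec Ω ⟶ Spec L`. -/
noncomputable def cmpMap {Ω : Type u} [Field Ω] (e : Spec (CommRingCat.of Ω) ⟶ Spec (CommRingCat.of L)) {T₀ : Scheme.{u}}
    (p₀ : T₀ ⟶ Spec (CommRingCat.of Ω)) (v : T₀ ⟶ W) (hv : v ≫ q = p₀ ≫ e) :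
    PicF.XT (pullback.snd f e) (Over.mk p₀) ⟶ PicF.XT f (Over.mk q) :=
  pullback.lift (pullback.fst (pullback.snd f e) (Over.mk p₀).hom ≫ pullback.fst f e)
    (PicF.XTproj (pullback.snd f e) (Over.mk p₀) ≫ v) (by
      have h1 : pullback.fst (pullback.snd f e) (Over.mk p₀).hom ≫ pullback.snd f e =
        PicF.XTproj (pullback.snd f e) (Over.mk p₀) ≫ p₀ := pullback.condition
      rw [Category.assoc, Category.assoc, pullback.condition, ← Category.assoc, h1]
      change _ = PicF.XTproj (pullback.snd f e) (Over.mk p₀) ≫ v ≫ q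
      rw [hv, Category.assoc])

theorem cmpMap_fst {Ω : Type u} [Field Ω] (e : Spec (CommRingCat.of Ω) ⟶ Spec (CommRingCat.of L)) {T₀ : Scheme.{u}}
    (p₀ : T₀ ⟶ Spec (CommRingCat.of Ω)) (v : T₀ ⟶ W) (hv : v ≫ q = p₀ ≫ e) :
    cmpMap f q e p₀ v hv ≫ pullback.fst f (Over.mk q).hom =
      pullback.fst (pullback.snd f e) (Over.mk p₀).hom ≫ pullback.fst f e := pullback.lift_fst _ _ _

theorem cmpMap_proj {Ω : Type u} [Field Ω] (e : Spec (CommRingCat.of Ω) ⟶ Spec (CommRingCat.of L)) {T₀ : Scheme.{u}}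
    (p₀ : T₀ ⟶ Spec (CommRingCat.of Ω)) (v : T₀ ⟶ W) (hv : v ≫ q = p₀ ≫ e) :
    cmpMap f q e p₀ v hv ≫ PicF.XTproj f (Over.mk q) =
      PicF.XTproj (pullback.snd f e) (Over.mk p₀) ≫ v := pullback.lift_snd _ _ _

theorem isPullback_cmpMap {Ω : Type u} [Field Ω] (e : Spec (CommRingCat.of Ω) ⟶ Spec (CommRingCat.of L)) {T₀ : Scheme.{u}}
    (p₀ : T₀ ⟶ Spec (CommRingCat.of Ω)) (v : T₀ ⟶ W) (hv : v ≫ q = p₀ ≫ e) :
    IsPullback (cmpMap f q e p₀ v hv) (PicF.XTproj (pullback.snd f e) (Over.mk p₀)) (PicF.XTproj f (Over.mk q)) v := by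
  have h2 : IsPullback (pullback.fst f q) (pullback.snd f q) f q := IsPullback.of_hasPullback f q
  have h1 : IsPullback (pullback.fst (pullback.snd f e) p₀ ≫ pullback.fst f e) (pullback.snd (pullback.snd f e) p₀) f
      (p₀ ≫ e) := (IsPullback.of_hasPullback (pullback.snd f e) p₀).paste_horiz (IsPullback.of_hasPullback f e)
  rw [← hv] at h1
  have h3 : cmpMap f q e p₀ v hv ≫ pullback.fst f q = pullback.fst (pullback.snd f e) p₀ ≫ pullback.fst f e :=
    cmpMap_fst f q e p₀ v hv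
  rw [← h3] at h1
  exact IsPullback.of_right h1 (cmpMap_proj f q e p₀ v hv) h2

/-- In a Noetherian space connected components are open. -/
theorem isOpen_cc {α : Type*} [TopologicalSpace α] [TopologicalSpace.NoetherianSpace α]
    (x : α) : IsOpen (connectedComponent x) := by
  have h := TopologicalSpace.NoetherianSpace.finite_irreducibleComponents (α := α)
  have : (connectedComponent x)ᶜ =
      ⋃ Z ∈ {Z ∈ irreducibleComponents α | Z ⊆ (connectedComponent x)ᶜ}, Z := by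
    apply Set.Subset.antisymm
    · intro y hy
      simp only [Set.mem_iUnion]
      refine ⟨irreducibleComponent y, ⟨irreducibleComponent_mem_irreducibleComponents y, ?_⟩,
        mem_irreducibleComponent⟩
      intro z hz hz'
      apply hy
      have h1 : irreducibleComponent y ⊆ connectedComponent z :=
        isIrreducible_irreducibleComponent.isConnected.isPreconnected.subset_connectedComponent hz
      rw [← connectedComponent_eq hz'] at h1
      exact h1 mem_irreducibleComponent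
    · simp only [Set.iUnion_subset_iff]
      exact fun Z hZ => hZ.2
  rw [← isClosed_compl_iff, this]
  exact Set.Finite.isClosed_biUnion (h.subset fun Z hZ => hZ.1) fun Z hZ => isClosed_of_mem_irreducibleComponents Z hZ.1

/-- One connected component. -/
theorem at_of_connected [ConnectedSpace W] [LocallyOfFiniteType q] [QuasiCompact q]
    (c : Pic (PicF.XT f (Over.mk q))) {Ω₀ : Type u} [Field Ω₀] [IsAlgClosed Ω₀] [Algebra L Ω₀] [Algebra.IsAlgebraic L Ω₀]
    (σ₀ : Spec (CommRingCat.of Ω₀) ⟶ W) (hσ₀ : σ₀ ≫ q = K531.Defs.sp L Ω₀)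
    (h₀ : At (PicF.XTproj f (Over.mk q)) c σ₀) {Ω : Type u} [Field Ω] [IsAlgClosed Ω]
    (σ : Spec (CommRingCat.of Ω) ⟶ W) : At (PicF.XTproj f (Over.mk q)) c σ := by
  let e : Spec (CommRingCat.of Ω₀) ⟶ Spec (CommRingCat.of L) := K531.Defs.sp L Ω₀
  have he : IsIntegralHom e := by
    rw [IsIntegralHom.SpecMap_iff]
    exact algebraMap_isIntegral_iff.2 inferInstance
  let W₀ : Scheme.{u} := pullback q e
  let p₀ : W₀ ⟶ Spec (CommRingCat.of Ω₀) := pullback.snd q e
  let v₀ : W₀ ⟶ W := pullback.fst q e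
  have : LocallyOfFiniteType p₀ := inferInstance
  have : QuasiCompact p₀ := inferInstance
  have : UniversallyOpen e := inferInstance
  have hv₀ : UniversallyOpen v₀ := inferInstance
  have hv₀' : IsIntegralHom v₀ := inferInstance
  have hN₀ : IsLocallyNoetherian W₀ := LocallyOfFiniteType.isLocallyNoetherian p₀
  have hC₀ : CompactSpace W₀ := QuasiCompact.compactSpace_of_compactSpace p₀
  have hN : IsNoetherian W₀ := { }
  let s₀ : Spec (CommRingCat.of Ω₀) ⟶ W₀ := pullback.lift σ₀ (𝟙 _) (by rw [hσ₀, Category.id_comp])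
  let w₀ : W₀ := s₀ (IsLocalRing.closedPoint Ω₀)
  let T₀ : W₀.Opens := ⟨connectedComponent w₀, isOpen_cc w₀⟩
  have hT₀ : ConnectedSpace T₀ := isConnected_iff_connectedSpace.1 isConnected_connectedComponent
  have hcl : IsClosed (Set.range T₀.ι) := by
    rw [Scheme.Opens.range_ι]
    exact isClosed_connectedComponent
  have : IsClosedImmersion T₀.ι :=
    { isClosedEmbedding := ⟨T₀.ι.isOpenEmbedding.isEmbedding, hcl⟩
      stalkMap_surjective := fun x => (ConcreteCategory.bijective_of_isIso (T₀.ι.stalkMap x)).2 }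
  have hs₀ : Set.range s₀ ⊆ Set.range T₀.ι := by
    rw [Scheme.Opens.range_ι]
    rintro _ ⟨x, rfl⟩
    rw [Subsingleton.elim x (IsLocalRing.closedPoint Ω₀)]
    exact mem_connectedComponent
  let t₀ : Spec (CommRingCat.of Ω₀) ⟶ T₀ := IsOpenImmersion.lift T₀.ι s₀ hs₀
  have ht₀ι : t₀ ≫ T₀.ι = s₀ := IsOpenImmersion.lift_fac _ _ _
  have ht₀ : t₀ ≫ T₀.ι ≫ p₀ = 𝟙 _ := by
    rw [← Category.assoc, ht₀ι]
    exact pullback.lift_snd _ _ _
  have ht₀v : t₀ ≫ T₀.ι ≫ v₀ = σ₀ := by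
    rw [← Category.assoc, ht₀ι]
    exact pullback.lift_fst _ _ _
  have hv : (T₀.ι ≫ v₀) ≫ q = (T₀.ι ≫ p₀) ≫ e := by
    rw [Category.assoc, Category.assoc]
    exact congrArg (fun z => T₀.ι ≫ z) pullback.condition
  let f₀ := pullback.snd f e
  let M := pull (cmpMap f q e (T₀.ι ≫ p₀) (T₀.ι ≫ v₀) hv) c
  have hsl : FibZero f₀ (pull (sl f₀ (T₀.ι ≫ p₀) t₀ ht₀) M) := by
    apply fibZero_of_mem
    have h1 : pullback.fst (PicF.XTproj f (Over.mk q)) σ₀ =
      pullback.fst (PicF.XTproj f (Over.mk q)) σ₀ := rfl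
    -- the comparison of `X_{Ω₀}` with the fibre
    let p : pullback f e ⟶ pullback (PicF.XTproj f (Over.mk q)) σ₀ :=
      pullback.lift (sl f₀ (T₀.ι ≫ p₀) t₀ ht₀ ≫ cmpMap f q e (T₀.ι ≫ p₀) (T₀.ι ≫ v₀) hv) (pullback.snd f e) (by
        rw [Category.assoc, cmpMap_proj, ← Category.assoc, sl_proj, Category.assoc, ht₀v])
    have h2 := @pull_mem_alg0 Ω₀ _ _ (fibOver (PicF.XTproj f (Over.mk q)) σ₀) _ (pullback f e) ⟨pullback.snd f e⟩ p
      (pullback.lift_snd _ _ _) _ h₀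
    rwa [← pull_comp, pullback.lift_fst, pull_comp] at h2
  have hM : FibZero (PicF.XTproj f₀ (Over.mk (T₀.ι ≫ p₀))) M :=
    fibZero_of_connected' f₀ (T₀.ι ≫ p₀) t₀ ht₀ M hsl
  have hint : IsIntegralHom (T₀.ι ≫ v₀) := inferInstance
  have hsurj : Function.Surjective (T₀.ι ≫ v₀) := by
    have ho : IsOpen (Set.range (T₀.ι ≫ v₀)) := (T₀.ι ≫ v₀).isOpenMap.isOpen_range
    have hc : IsClosed (Set.range (T₀.ι ≫ v₀)) := (T₀.ι ≫ v₀).isClosedMap.isClosed_range
    rw [← Set.range_eq_univ]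
    rcases isClopen_iff.1 (⟨hc, ho⟩ : IsClopen _) with h | h
    · exact absurd ⟨_, rfl⟩ (Set.eq_empty_iff_forall_notMem.1 h ((T₀.ι ≫ v₀) (t₀ (IsLocalRing.closedPoint Ω₀))))
    · exact h
  obtain ⟨σ', hσ'⟩ := K952.LiftPt.exists_lift (T₀.ι ≫ v₀) hsurj σ
  rw [← hσ']
  exact At.of_pull (isPullback_cmpMap f q e (T₀.ι ≫ p₀) (T₀.ι ≫ v₀) hv) (hM Ω σ')

end Field

end K531.Clopen
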