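import Groth.Agent.Neron.K531.Clopen
import Groth.Agent.PicF.K247.BC

/-!
# The locus where a family of invertible modules is algebraically trivial is open and closed, part 2
-/

set_option autoImplicit false

universe u

open CategoryTheory CategoryTheory.Limits AlgebraicGeometry TopologicalSpace Opposite
open Groth.Agent Groth.Agent.Grpsch Groth.Agent.Grpsch.PicGrp Groth.Agent.Fga.RigGrp
open K530.PicZero Groth.Agent.Pic13.H138.AlgEquiv K247.QcZero

namespace K531.Clopen

variable {L : Type u} [Field L] {X W : Scheme.{u}} (f : X ⟶ Spec (CommRingCat.of L)) (q : W ⟶ Spec (CommRingCat.of L))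

/-- a good algebraic point -/
def Good (c : Pic (PicF.XT f (Over.mk q))) (w : W) : Prop :=
  ∃ (F : Type u) (_ : Field F) (_ : Algebra L F) (_ : Algebra.IsAlgebraic L F) (σ : Spec (CommRingCat.of F) ⟶ W),
    σ ≫ q = K531.Defs.sp L F ∧ FibZero (PicF.XTproj f (Over.mk (σ ≫ q)))
      (pull (PicF.XTmap f (Over.homMk σ : Over.mk (σ ≫ q) ⟶ Over.mk q)) c) ∧
      σ (IsLocalRing.closedPoint F) ∈ connectedComponent w

theorem at_of_good [LocallyOfFiniteType q] [QuasiCompact q] (c : Pic (PicF.XT f (Over.mk q)))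
    {Ω : Type u} [Field Ω] [IsAlgClosed Ω] (σ : Spec (CommRingCat.of Ω) ⟶ W)
    (hσ : Good f q c (σ (IsLocalRing.closedPoint Ω))) : At (PicF.XTproj f (Over.mk q)) c σ := by
  obtain ⟨F, _, _, _, ρ, hρ, hz, hmem⟩ := hσ
  have hN₀ : IsLocallyNoetherian W := LocallyOfFiniteType.isLocallyNoetherian q
  have hC₀ : CompactSpace W := QuasiCompact.compactSpace_of_compactSpace q
  have hN : IsNoetherian W := { }
  set w := σ (IsLocalRing.closedPoint Ω) with hw
  let T : W.Opens := ⟨connectedComponent w, isOpen_cc w⟩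
  have hT : ConnectedSpace T := isConnected_iff_connectedSpace.1 isConnected_connectedComponent
  have hrσ : Set.range σ ⊆ Set.range T.ι := by
    rw [Scheme.Opens.range_ι]
    rintro _ ⟨x, rfl⟩
    rw [Subsingleton.elim x (IsLocalRing.closedPoint Ω)]
    exact mem_connectedComponent
  have hrρ : Set.range ρ ⊆ Set.range T.ι := by
    rw [Scheme.Opens.range_ι]
    rintro _ ⟨x, rfl⟩
    rw [Subsingleton.elim x (IsLocalRing.closedPoint F)]
    exact hmem
  let Ω₀ := AlgebraicClosure F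
  let _ : Algebra L Ω₀ := inferInstance
  have : Algebra.IsAlgebraic L Ω₀ := Algebra.IsAlgebraic.trans L F Ω₀
  let τ : Spec (CommRingCat.of Ω₀) ⟶ T := K531.Defs.sp F Ω₀ ≫ IsOpenImmersion.lift T.ι ρ hrρ
  have hτ : τ ≫ T.ι = K531.Defs.sp F Ω₀ ≫ ρ := by
    rw [Category.assoc, IsOpenImmersion.lift_fac]
  have hτq : τ ≫ T.ι ≫ q = K531.Defs.sp L Ω₀ := by
    rw [← Category.assoc, hτ, Category.assoc, hρ, ← Spec.map_comp, ← CommRingCat.ofHom_comp,
      ← IsScalarTower.algebraMap_eq]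
  let g : Over.mk (T.ι ≫ q) ⟶ Over.mk q := Over.homMk T.ι
  have H : IsPullback (PicF.XTmap f g) (PicF.XTproj f (Over.mk (T.ι ≫ q))) (PicF.XTproj f (Over.mk q)) T.ι :=
    Picfga.HilbPull.isPullback_XTmap f g
  have hat : At (PicF.XTproj f (Over.mk (T.ι ≫ q))) (pull (PicF.XTmap f g) c) τ := by
    rw [at_iff H, hτ]
    have H' : IsPullback (PicF.XTmap f (Over.homMk ρ : Over.mk (ρ ≫ q) ⟶ Over.mk q))
        (PicF.XTproj f (Over.mk (ρ ≫ q))) (PicF.XTproj f (Over.mk q)) ρ := Picfga.HilbPull.isPullback_XTmap f _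
    exact At.of_pull H' (hz _ _)
  have h1 := at_of_connected f (T.ι ≫ q) (pull (PicF.XTmap f g) c) τ hτq hat (IsOpenImmersion.lift T.ι σ hrσ)
  rw [at_iff H, IsOpenImmersion.lift_fac] at h1
  exact h1

/-- **(CO)** -/
theorem exists_clopen [LocallyOfFiniteType q] [QuasiCompact q] (c : Pic (PicF.XT f (Over.mk q))) :
    ∃ U : W.Opens, IsClosed (U : Set W) ∧
      FibZero (PicF.XTproj f (Over.mk (U.ι ≫ q))) (pull (PicF.XTmap f (Over.homMk U.ι : Over.mk (U.ι ≫ q) ⟶ Over.mk q)) c) ∧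
      ∀ {F : Type u} [Field F] [Algebra L F] [Algebra.IsAlgebraic L F] (σ : Spec (CommRingCat.of F) ⟶ W),
        σ ≫ q = K531.Defs.sp L F → FibZero (PicF.XTproj f (Over.mk (σ ≫ q)))
          (pull (PicF.XTmap f (Over.homMk σ : Over.mk (σ ≫ q) ⟶ Over.mk q)) c) → ∀ p, σ p ∈ U := by
  have hN₀ : IsLocallyNoetherian W := LocallyOfFiniteType.isLocallyNoetherian q
  have hC₀ : CompactSpace W := QuasiCompact.compactSpace_of_compactSpace q
  have hN : IsNoetherian W := { }
  have key : ∀ w w' : W, w' ∈ connectedComponent w → (Good f q c w ↔ Good f q c w') := by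
    intro w w' h
    unfold Good
    rw [connectedComponent_eq h]
  have hopen : ∀ P : W → Prop, (∀ w w' : W, w' ∈ connectedComponent w → (P w ↔ P w')) → IsOpen {w | P w} := by
    intro P hP
    rw [isOpen_iff_forall_mem_open]
    intro w hw
    exact ⟨connectedComponent w, fun w' hw' => (hP w w' hw').1 hw, isOpen_cc w, mem_connectedComponent⟩
  let U : W.Opens := ⟨{w | Good f q c w}, hopen _ key⟩
  refine ⟨U, ?_, ?_, ?_⟩
  · rw [← isOpen_compl_iff]
    exact hopen (fun w => ¬ Good f q c w) (fun w w' h => not_congr (key w w' h))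
  · intro Ω _ _ σ
    let g : Over.mk (U.ι ≫ q) ⟶ Over.mk q := Over.homMk U.ι
    have H : IsPullback (PicF.XTmap f g) (PicF.XTproj f (Over.mk (U.ι ≫ q))) (PicF.XTproj f (Over.mk q)) U.ι :=
      Picfga.HilbPull.isPullback_XTmap f g
    refine (at_iff H (σ := σ)).2 (at_of_good f q c (σ ≫ U.ι) ?_)
    exact (σ (IsLocalRing.closedPoint Ω)).2
  · intro F _ _ _ σ hσ hz p
    rw [Subsingleton.elim p (IsLocalRing.closedPoint F)]
    exact ⟨F, _, _, inferInstance, σ, hσ, hz, mem_connectedComponent⟩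

end K531.Clopen
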