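import Groth.Agent.Neron.K531.Clopen2
import Groth.Agent.Fga.JacFactor
import Groth.Agent.Fga.RelCart

/-!
# From the Hilbert scheme of points of a curve to its Jacobian

`core`: over a field `L`, `(Z, D)` representing `Hilb^d_{X/L}`, `Wd` the locus of Cartier divisors: an open and closed part
`W` of `Wd` and a morphism `W ⟶ P` onto the points of `P = Pic⁰` over algebraic extensions of `L`.
-/

set_option autoImplicit false

universe u

open CategoryTheory CategoryTheory.Limits AlgebraicGeometry TopologicalSpace Opposite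
open Groth.Agent Groth.Agent.Grpsch Groth.Agent.Grpsch.PicGrp Groth.Agent.Fga.RigGrp Groth.Agent.Fga.JacFactor
open K530.PicZero K531.Defs

namespace K531.Core

theorem pull_dcl {X Y : Scheme.{u}} (g : Y ⟶ X) {D : X.IdealSheafData} (hD : BlowUp.IsEffCartierIdeal D)
    {E : Y.IdealSheafData} (hE : BlowUp.IsEffCartierIdeal E) (h : D.comap g = E) : pull g (dcl D hD) = dcl E hE := by
  subst h
  rw [dcl, dcl, pull_mk, mk_eq_iff]
  exact Groth.Agent.Dix.IdealModCartier.pullback_idealMod g hD hE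

variable {L : Type u} [Field L] {X : Scheme.{u}} (f : X ⟶ Spec (CommRingCat.of L))

theorem core {P : Over (Spec (CommRingCat.of L))}
    {φ : ∀ T : Over (Spec (CommRingCat.of L)), PicF.Cl (PicF.XT f T) → (T ⟶ P)}
    (hP : AbDual.IsRelPicZeroK Scheme.fppfPrecoverage f P φ) (d : ℕ) (H : Pic X)
    (hDV : ∀ {F : Type u} [Field F] (s : Spec (CommRingCat.of F) ⟶ Spec (CommRingCat.of L))
      (c : Pic (PicF.XT f (Over.mk s))), FibZero (PicF.XTproj f (Over.mk s)) c →
      ∃ (E : HilbD.Obj f d (Over.mk s)) (hE : BlowUp.IsEffCartierIdeal E.1),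
        dcl E.1 hE = (c * pull (pullback.fst f (Over.mk s).hom) H)⁻¹)
    (hCL : ∀ {F : Type u} [Field F] (s : Spec (CommRingCat.of F) ⟶ Spec (CommRingCat.of L)) (y : Over.mk s ⟶ P),
      ∃ c : Pic (PicF.XT f (Over.mk s)), FibZero (PicF.XTproj f (Over.mk s)) c ∧ φ (Over.mk s) (toCl c) = y)
    (Z : Over (Spec (CommRingCat.of L))) (D : HilbD.Obj f d Z) (hD : UnivLN f d Z D) [LocallyOfFiniteType Z.hom]
    [QuasiCompact Z.hom] (Wd : Z.left.Opens)
    (hWd : ∀ (T : Over (Spec (CommRingCat.of L))) [IsLocallyNoetherian T.left] (t : T ⟶ Z),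
      Set.range t.left ⊆ (Wd : Set Z.left) ↔ BlowUp.IsEffCartierIdeal (HilbD.pull f t D.1)) :
    ∃ (W : Z.left.Opens) (h : (W : Scheme.{u}) ⟶ P.left), W ≤ Wd ∧
      (∀ x ∈ closure (W : Set Z.left), x ∈ Wd → x ∈ W) ∧ h ≫ P.hom = W.ι ≫ Z.hom ∧
      ∀ {F : Type u} [Field F] [Algebra L F] [Algebra.IsAlgebraic L F] (y : Over.mk (sp L F) ⟶ P),
        ∃ z : Spec (CommRingCat.of F) ⟶ W, z ≫ h = y.left ∧ z ≫ W.ι ≫ Z.hom = sp L F := by
  have hN₀ : IsLocallyNoetherian Z.left := LocallyOfFiniteType.isLocallyNoetherian Z.hom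
  have hN₁ : CompactSpace Z.left := QuasiCompact.compactSpace_of_compactSpace Z.hom
  have hN : IsNoetherian Z.left := { }
  let q : (Wd : Scheme.{u}) ⟶ Spec (CommRingCat.of L) := Wd.ι ≫ Z.hom
  have hq1 : LocallyOfFiniteType q := inferInstance
  have hN2 : IsLocallyNoetherian (Wd : Scheme.{u}) := LocallyOfFiniteType.isLocallyNoetherian q
  have hN3 : TopologicalSpace.NoetherianSpace (Wd : Scheme.{u}) := Wd.ι.isOpenEmbedding.isInducing.noetherianSpace
  have hq2 : QuasiCompact q := inferInstance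
  let td : Over.mk q ⟶ Z := Over.homMk Wd.ι
  have hEd : BlowUp.IsEffCartierIdeal (HilbD.pull f td D.1) := by
    have : IsLocallyNoetherian (Over.mk q).left := hN2
    refine (hWd (Over.mk q) td).1 ?_
    change Set.range Wd.ι ⊆ _
    rw [Scheme.Opens.range_ι]
  let cd : Pic (PicF.XT f (Over.mk q)) := (dcl _ hEd)⁻¹ * (pull (pullback.fst f (Over.mk q).hom) H)⁻¹
  obtain ⟨U, hU1, hU2, hU3⟩ := Clopen.exists_clopen f q cd
  let W : Z.left.Opens := Wd.ι ''ᵁ U
  let g : Over.mk (U.ι ≫ q) ⟶ Over.mk q := Over.homMk U.ι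
  let h₀ : Over.mk (U.ι ≫ q) ⟶ P := φ _ (toCl (pull (PicF.XTmap f g) cd))
  let e := Wd.ι.isoImage U
  have he : e.hom ≫ W.ι = U.ι ≫ Wd.ι := Scheme.Hom.isoImage_hom_ι _ _
  have hh₀ : h₀.left ≫ P.hom = U.ι ≫ q := Over.w h₀
  refine ⟨W, e.inv ≫ h₀.left, ?_, ?_, ?_, ?_⟩
  · rintro _ ⟨x, -, rfl⟩
    exact x.2
  · intro x hx hxd
    let x' : (Wd : Scheme.{u}) := ⟨x, hxd⟩
    have h1 : x' ∈ closure (U : Set (Wd : Scheme.{u})) := by
      rw [Wd.ι.isOpenEmbedding.isInducing.closure_eq_preimage_closure_image]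
      exact hx
    rw [hU1.closure_eq] at h1
    exact ⟨x', h1, rfl⟩
  · rw [Category.assoc, hh₀, Iso.inv_comp_eq, ← Category.assoc, ← Category.assoc, he]
  · intro F _ _ _ y
    obtain ⟨c, hc, hcy⟩ := hCL (sp L F) y
    obtain ⟨E, hE, hEc⟩ := hDV (sp L F) c hc
    have : IsLocallyNoetherian (Over.mk (sp L F)).left := inferInstanceAs (IsLocallyNoetherian (Spec (CommRingCat.of F)))
    obtain ⟨t, ht, -⟩ := hD (Over.mk (sp L F)) E
    have ht' : t.left ≫ Z.hom = sp L F := Over.w t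
    have hrt : Set.range t.left ⊆ Set.range Wd.ι := by
      rw [Scheme.Opens.range_ι, hWd, ht]
      exact hE
    let t' : Spec (CommRingCat.of F) ⟶ Wd := IsOpenImmersion.lift Wd.ι t.left hrt
    have ht'ι : t' ≫ Wd.ι = t.left := IsOpenImmersion.lift_fac _ _ _
    have hs : t' ≫ q = sp L F := by rw [← ht', ← ht'ι, Category.assoc]
    let a : Over.mk (sp L F) ⟶ Over.mk q := Over.homMk t' hs
    have hatd : a ≫ td = t := Over.OverMorphism.ext ht'ι
    have hDE : (HilbD.pull f td D.1).comap (PicF.XTmap f a) = E.1 := by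
      rw [← ht, Picfga.HilbPull.pull_eq_comap, Picfga.HilbPull.pull_eq_comap, ← Scheme.IdealSheafData.comap_comp,
        ← XTmap_comp, hatd]
    have hca : pull (PicF.XTmap f a) cd = c := by
      rw [map_mul, map_inv, map_inv, pull_dcl _ hEd hE hDE, hEc, inv_inv, ← pull_comp, XTmap_fst]
      exact mul_inv_cancel_right c _
    have hU : ∀ p, t' p ∈ U := by
      refine hU3 t' hs ?_
      let b : Over.mk (t' ≫ q) ⟶ Over.mk (sp L F) := Over.homMk (𝟙 _) (by
        change 𝟙 _ ≫ sp L F = t' ≫ q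
        rw [Category.id_comp, hs])
      have hb : (Over.homMk t' : Over.mk (t' ≫ q) ⟶ Over.mk q) = b ≫ a := Over.OverMorphism.ext (Category.id_comp _).symm
      rw [hb, XTmap_comp, pull_comp, hca]
      exact hc.pull _ (𝟙 _) (by rw [XTmap_XTproj]; rfl)
    have hrU : Set.range t' ⊆ Set.range U.ι := by
      rw [Scheme.Opens.range_ι]
      rintro _ ⟨p, rfl⟩
      exact hU p
    let t'' : Spec (CommRingCat.of F) ⟶ U := IsOpenImmersion.lift U.ι t' hrU
    have ht'' : t'' ≫ U.ι = t' := IsOpenImmersion.lift_fac _ _ _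
    let a'' : Over.mk (sp L F) ⟶ Over.mk (U.ι ≫ q) := Over.homMk t'' (by
      change t'' ≫ U.ι ≫ q = sp L F
      rw [← Category.assoc, ht'', hs])
    have ha'' : a'' ≫ g = a := Over.OverMorphism.ext ht''
    have hz : a'' ≫ h₀ = y := by
      have h1 : AbDual.IsPicZeroCl f (Over.mk (U.ι ≫ q)) (toCl (pull (PicF.XTmap f g) cd)) :=
        (isPicZeroCl_toCl_iff f _ _).2 hU2
      rw [← hP.natural _ _ a'' _ h1, ← toCl_pull, ← pull_comp, ← XTmap_comp, ha'', hca, hcy]
    refine ⟨t'' ≫ e.hom, ?_, ?_⟩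
    · rw [Category.assoc, Iso.hom_inv_id_assoc, ← hz]
      rfl
    · rw [Category.assoc, ← Category.assoc e.hom, he, Category.assoc, ← Category.assoc t'', ht'']
      exact hs

end K531.Core
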