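import Groth.Agent.Neron.K531.Core
import Groth.Agent.Neron.K488.RegBC
import Groth.Agent.VarietyB.DimTop
import Groth.Agent.S7645
import Groth.Agent.Neron.K472.Comps
import Groth.Agent.CohqB.ProjBC

/-!
# The curve over a finite separable extension
-/

set_option autoImplicit false

universe u

open CategoryTheory CategoryTheory.Limits AlgebraicGeometry TopologicalSpace Opposite
open Groth.Agent Groth.Agent.Grpsch Groth.Agent.Grpsch.PicGrp Groth.Agent.Fga.RigGrp Groth.Agent.Fga.JacFactor
open K530.PicZero K531.Defs K247.BC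

namespace K531.Setup

theorem dim_le_one {T : Type u} [TopologicalSpace T]
    (h : ∀ Z ∈ irreducibleComponents T, topologicalKrullDim Z = 1) : topologicalKrullDim T ≤ 1 := by
  rw [VarietyB.DimTop.topologicalKrullDim_eq_iSup_irreducibleComponents]
  exact iSup_le fun Z => (h Z.1 Z.2).le

/-- A proper scheme of dimension at most one is projective, relative form. -/
theorem exists_embedding {L : Type u} [Field L] {X : Scheme.{u}} (f : X ⟶ Spec (CommRingCat.of L)) [IsProper f]
    (hdim : ∀ W ∈ irreducibleComponents (X : Type u), topologicalKrullDim W = 1) :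
    ∃ (n : ℕ) (i : X ⟶ CohB1.ProjSpaceOver n (Spec (CommRingCat.of L))), IsClosedImmersion i ∧
      i ≫ CohB1.ProjSpaceOver.toBase n _ = f := by
  let _ : X.Over (Spec (CommRingCat.of L)) := ⟨f⟩
  have h1 : IsProper (X ↘ Spec (CommRingCat.of L)) := ‹IsProper f›
  obtain ⟨n, i, hi, h⟩ := S7645.result L X (dim_le_one hdim)
  refine ⟨n, i ≫ (CohqB.ProjBC.projSpaceOverIso n L).inv, inferInstance, ?_⟩
  rw [Category.assoc, CohqB.ProjBC.projSpaceOverIso_inv_toBase, h]
  rfl

theorem sp_comp (A B C : Type u) [CommRing A] [CommRing B] [CommRing C] [Algebra A B] [Algebra B C] [Algebra A C]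
    [IsScalarTower A B C] : sp B C ≫ sp A B = sp A C := by
  rw [← Spec.map_comp, ← CommRingCat.ofHom_comp, ← IsScalarTower.algebraMap_eq]

/-- Regularity over separable algebraic extensions. -/
theorem regular_pullback {K F : Type u} [Field K] [Field F] [Algebra K F] [Algebra.IsSeparable K F] {C : Scheme.{u}}
    (g : C ⟶ Spec (CommRingCat.of K)) [LocallyOfFiniteType g] (hC : ∀ x : C, IsRegularLocalRing (C.presheaf.stalk x)) :
    ∀ x : ↥(pullback g (sp K F)), IsRegularLocalRing ((pullback g (sp K F)).presheaf.stalk x) := by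
  have := K488.RegBC.isGeometricallyReduced_of_isSeparable K F
  exact K488.RegBC.isRegularScheme_pullback (k := F) g hC

end K531.Setup
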